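import Mathlib

/-! Certificates for the fusion of orbits on short vectors (computed offline). -/

namespace Cfsg.Lib.Leech

/-- A permutation, and its inverse. -/
def rhoList : List ℕ := [21, 23, 14, 1, 10, 3, 11, 0, 7, 17, 18, 19, 4, 15, 6, 5, 16, 9, 8, 22, 13, 2, 12, 20]
/-- The inverse of the previous one. -/
def rhoInvList : List ℕ := [7, 3, 21, 5, 12, 15, 14, 8, 18, 17, 4, 6, 22, 20, 2, 13, 16, 9, 10, 11, 23, 0, 19, 1]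
/-- A permutation, and its inverse. -/
def piList2 : List ℕ := [7, 5, 21, 3, 8, 19, 15, 4, 18, 9, 22, 1, 12, 23, 14, 13, 11, 6, 0, 16, 10, 20, 2, 17]
/-- The inverse of the previous one. -/
def piInvList2 : List ℕ := [18, 11, 22, 3, 7, 1, 17, 0, 4, 9, 20, 16, 12, 15, 14, 6, 19, 23, 8, 5, 21, 2, 10, 13]

/-- Witnesses in the orbit of the chosen vector. -/
def wit16 : List (List ℤ) := [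
  [-2, 0, 2, 0, 0, -2, 0, 0, 0, 0, 0, 0, 0, 0, 0, 2, -2, 0, -2, 0, 0, -2, 0, -2],
  [-2, -2, 0, 0, 0, -2, 0, 0, 0, 0, -2, 0, -2, 0, 0, 0, 2, 0, 0, 2, 0, 0, 0, -2],
  [-2, -2, 0, 0, 0, 0, 0, 2, 0, 0, 2, 2, 0, 0, 0, 0, 0, -2, 0, 0, 0, 0, 2, -2],
  [-2, 0, 0, 0, 0, 0, -2, 0, 0, 0, -2, 0, 0, 0, 2, 0, 0, 2, 0, 2, 2, 0, 0, -2],
  [-2, 0, 0, 0, 0, 0, 2, 0, 0, 0, 2, 0, 0, 0, -2, 0, 0, 2, 0, 2, -2, 0, 0, -2]]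

/-- Witnesses in the orbit of the chosen vector. -/
def wit8 : List (List ℤ) := [
  [0, 0, 2, 0, 0, 0, 0, 2, 0, -2, 0, 0, 0, -2, 0, 0, -2, 0, 0, 0, 2, 2, 0, -2],
  [0, 0, 0, 0, 0, 0, 0, 2, 0, 0, 2, 0, 0, 0, 0, 0, -2, 2, -2, 2, 0, -2, 0, -2],
  [0, 0, 0, 0, 0, 0, 0, 2, 2, 0, -2, 0, 0, 2, 0, 2, 0, 2, 0, 0, 2, 0, 0, -2],
  [0, 0, 2, 0, 0, 0, 0, 0, 2, 0, 0, 0, 2, 0, 0, 0, -2, 0, 0, -2, 0, -2, 2, -2],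
  [0, 0, 2, 0, 0, 0, 0, -2, 0, 0, 2, -2, -2, 0, 0, 0, 0, 0, 0, -2, -2, 0, 0, -2]]

/-- Witnesses in the orbit of the chosen vector. -/
def wit0 : List (List ℤ) := [
  [0, 0, 0, -4, 0, 0, 0, 0, 0, 0, 0, 0, 0, 0, 0, 0, 0, 0, 0, 0, 4, 0, 0, 0],
  [0, -4, 0, 0, 0, 0, 0, 0, -4, 0, 0, 0, 0, 0, 0, 0, 0, 0, 0, 0, 0, 0, 0, 0],
  [0, 0, 0, 0, 0, 0, 0, 0, 0, -4, 0, 0, 0, 0, 0, 0, 0, 0, 0, 0, -4, 0, 0, 0],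
  [0, 0, 0, 0, 0, 0, 0, 0, 0, 0, -4, 0, 0, 0, 0, 0, 0, 0, 0, 0, 4, 0, 0, 0],
  [0, 0, 0, 0, 0, 0, 0, 0, 0, 0, 0, -4, 0, 0, 0, 0, 0, 0, -4, 0, 0, 0, 0, 0],
  [0, 0, 0, 0, 0, 0, 0, 0, 0, 0, 4, 0, 0, 0, 0, 0, 0, 0, 0, 0, -4, 0, 0, 0]]

/-- Witnesses in the orbit of a linked vector. -/
def wit0b : List (List ℤ) := [
  [0, 0, -2, -2, 0, 0, -2, 0, 0, 0, 0, 0, 0, 0, -2, 0, 0, 2, -2, 0, 2, 0, -2, 0],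
  [0, 0, 0, 2, -2, -2, 2, -2, 0, 0, 2, 0, 0, -2, 0, 2, 0, 0, 0, 0, 0, 0, 0, 0]]

end Cfsg.Lib.Leech
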