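import Mathlib

/-! Orbit certificates for the two point stabiliser acting on octads (computed offline). -/

namespace Cfsg.Lib.Leech

/-- Two permutations fixing the points numbered 23 and 0. -/
def pairGens : List (List ℕ) := [
  [0, 4, 13, 3, 17, 12, 21, 6, 9, 22, 2, 10, 19, 8, 18, 1, 14, 5, 7, 15, 16, 20, 11, 23],
  [0, 8, 10, 19, 1, 15, 2, 7, 5, 12, 20, 9, 18, 13, 21, 4, 3, 11, 17, 14, 22, 16, 6, 23]]

/-- The four starts, by the two membership bits, with their layers. -/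
def pairOctCerts : List (ℕ × List (List (ℕ × ℕ))) := [
  (10558, [
    [
      (0,0), (1,0)],
    [
      (0,0), (1,0), (0,1), (1,1)],
    [
      (0,0), (1,0), (0,1), (1,1), (0,2), (1,2), (0,3), (1,3)],
    [
      (0,0), (1,0), (0,1), (1,1), (0,2), (1,2), (0,3), (1,3), (0,4), (1,4), (0,5), (1,5), (0,6),
      (1,6), (0,7), (1,7)],
    [
      (0,0), (1,0), (0,1), (1,1), (0,2), (1,2), (0,3), (1,3), (1,4), (0,5), (0,6), (1,6), (0,7),
      (1,7), (0,8), (1,8), (0,9), (1,9), (0,10), (1,10), (0,11), (0,12), (1,12), (0,13), (1,13),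
      (0,14), (0,15)],
    [
      (0,0), (1,0), (0,1), (1,1), (1,2), (0,3), (1,3), (1,4), (0,5), (1,5), (1,6), (0,7), (1,7),
      (0,8), (1,8), (0,9), (1,9), (0,10), (1,10), (0,11), (1,11), (0,12), (1,12), (0,14), (1,14),
      (0,16), (1,16), (0,17), (1,17), (0,18), (1,18), (0,19), (1,19), (0,20), (1,20), (0,21),
      (1,21), (0,22), (1,22), (0,23), (1,23), (0,24), (1,24), (1,25), (0,26)],
    [
      (1,0), (0,1), (1,1), (0,2), (1,3), (0,4), (1,4), (1,5), (0,6), (1,6), (1,7), (0,8), (1,8),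
      (0,9), (1,9), (0,10), (1,10), (1,11), (0,12), (0,13), (1,13), (0,14), (1,14), (0,15), (1,15),
      (0,16), (1,16), (0,17), (1,17), (0,18), (1,18), (0,19), (1,19), (0,20), (1,20), (0,21),
      (1,21), (1,22), (0,23), (1,23), (0,24), (0,25), (0,26), (1,26), (0,28), (1,28), (1,29),
      (1,30), (0,31), (1,31), (0,32), (1,32), (1,33), (0,34), (0,35), (1,35), (0,36), (0,37),
      (1,37), (0,38), (1,38), (0,39), (0,40), (1,40), (0,41), (1,41), (0,42), (1,42), (0,43)],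
    [
      (0,0), (1,0), (1,1), (0,2), (1,2), (1,3), (1,4), (0,5), (1,5), (0,6), (1,7), (0,8), (0,9),
      (0,10), (0,11), (0,12), (0,13), (1,13), (1,14), (0,15), (0,16), (1,16), (0,17), (0,18),
      (1,18), (0,20), (1,20), (0,21), (1,21), (0,22), (1,22), (0,25), (0,26), (1,26), (0,27),
      (1,27), (0,28), (0,29), (1,29), (1,30), (0,31), (1,31), (0,32), (1,32), (0,33), (1,33),
      (0,34), (0,35), (1,35), (1,38), (1,39), (1,40), (1,41), (1,42), (0,43), (1,44), (0,46),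
      (1,46), (1,48), (0,49), (1,49), (0,50), (1,51), (0,52), (0,54), (1,55), (0,56), (1,56),
      (1,57), (1,59), (1,60), (0,61), (1,61), (1,62), (1,63), (0,64), (1,64), (0,67), (1,68)],
    [
      (0,1), (1,2), (0,3), (1,4), (1,5), (0,6), (0,8), (1,8), (0,9), (1,9), (0,10), (0,11), (1,11),
      (0,12), (0,13), (1,13), (0,14), (0,15), (1,15), (0,16), (1,16), (0,18), (0,19), (1,19),
      (0,23), (0,24), (1,24), (1,25), (1,27), (0,28), (1,28), (1,29), (0,31), (1,34), (1,36),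
      (1,37), (1,38), (0,40), (1,40), (1,42), (0,43), (0,44), (0,45), (1,46), (0,51), (0,52),
      (0,54), (0,58), (1,64), (0,65), (0,66), (0,67), (1,67), (0,70), (1,71), (1,72), (0,73),
      (0,74), (1,74), (1,75)],
    [
      (0,4), (1,4), (1,6), (0,7), (1,11), (0,13), (0,15), (1,15), (0,16), (1,22), (1,24), (1,25),
      (0,34), (0,40), (0,49), (1,50), (1,53), (1,54), (1,55)]]),
  (5279, [
    [
      (0,0), (1,0)],
    [
      (0,0), (1,0), (0,1), (1,1)],
    [
      (0,0), (1,0), (0,1), (1,1), (0,2), (0,3), (1,3)],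
    [
      (0,0), (1,0), (0,1), (1,1), (0,2), (1,2), (0,3), (1,3), (0,4), (1,4), (0,5), (1,5), (0,6)],
    [
      (0,0), (1,0), (0,1), (1,1), (0,2), (0,3), (1,3), (0,4), (1,4), (0,5), (1,5), (0,6), (1,6),
      (0,7), (1,7), (0,8), (1,8), (1,9), (0,10), (1,10), (0,11), (1,11), (0,12)],
    [
      (0,0), (1,0), (0,1), (1,1), (0,2), (1,2), (0,3), (1,3), (0,4), (0,5), (1,5), (0,6), (1,6),
      (0,7), (1,7), (0,8), (1,8), (0,9), (0,10), (0,11), (1,11), (0,12), (0,13), (1,13), (0,14),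
      (0,15), (1,15), (0,16), (1,16), (0,17), (1,17), (0,18), (1,18), (1,19), (1,20), (0,21),
      (1,21), (0,22), (1,22)],
    [
      (0,1), (1,1), (0,2), (1,2), (1,3), (1,4), (0,5), (0,6), (1,6), (1,8), (0,10), (1,10), (0,13),
      (0,15), (1,15), (0,16), (1,17), (0,19), (1,19), (0,20), (1,20), (0,22), (1,22), (1,23),
      (0,24), (1,24), (1,25), (0,26), (1,27), (0,28), (0,29), (1,29), (0,30), (1,30), (1,31),
      (0,32), (0,33), (1,34), (1,35), (0,36), (1,37), (0,38)],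
    [
      (0,0), (1,0), (1,1), (0,2), (1,2), (1,4), (0,5), (1,5), (1,6), (0,8), (0,9), (0,10), (1,10),
      (0,11), (0,12), (1,12), (1,13), (1,15), (0,17), (1,20), (0,22), (1,22), (0,23), (1,25),
      (0,26), (1,27), (0,28), (0,29), (0,30), (0,31), (1,32), (0,34), (1,35), (0,37), (0,38),
      (0,40), (1,40)],
    [
      (1,1), (1,6), (0,7), (1,7), (0,9), (1,19), (1,22), (1,24)]]),
  (8394986, [
    [
      (0,0), (1,0)],
    [
      (0,0), (1,0), (0,1), (1,1)],
    [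
      (0,0), (1,0), (0,1), (1,1), (0,2), (1,2), (0,3), (1,3)],
    [
      (0,0), (1,0), (0,1), (1,1), (0,2), (1,2), (0,3), (1,3), (0,4), (1,4), (0,5), (1,5), (0,6),
      (0,7), (1,7)],
    [
      (0,0), (1,0), (0,1), (1,1), (0,3), (1,3), (0,4), (1,4), (0,5), (1,5), (0,6), (1,6), (0,7),
      (1,7), (0,8), (1,8), (0,9), (1,9), (0,10), (1,10), (1,11), (0,12), (0,13), (1,13), (0,14)],
    [
      (0,0), (1,0), (0,1), (1,1), (0,2), (1,2), (0,3), (1,3), (0,4), (1,4), (0,5), (1,5), (0,6),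
      (1,6), (0,7), (1,7), (0,8), (1,8), (0,9), (1,9), (0,10), (1,10), (1,11), (0,13), (1,14),
      (1,15), (0,16), (1,16), (0,17), (1,17), (1,18), (0,19), (1,19), (1,20), (0,21), (1,21),
      (0,22), (1,22), (0,23), (1,23), (0,24), (1,24)],
    [
      (1,0), (1,1), (1,2), (0,3), (1,3), (0,4), (0,6), (1,6), (0,7), (1,7), (1,8), (0,10), (0,11),
      (1,12), (1,13), (1,14), (0,15), (0,16), (1,16), (0,17), (0,18), (1,18), (1,20), (0,21),
      (1,21), (0,22), (1,24), (0,27), (1,27), (1,29), (1,30), (1,32), (0,33), (0,35), (1,35),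
      (0,36), (1,36), (0,37), (1,37), (1,39), (0,40), (1,40), (0,41), (1,41)],
    [
      (1,0), (0,1), (0,4), (0,5), (1,5), (1,6), (1,8), (0,9), (1,10), (0,13), (1,13), (1,15),
      (0,16), (1,16), (1,17), (0,18), (0,19), (1,23), (0,24), (1,27), (1,34), (0,36), (1,39),
      (0,40), (1,42)],
    [
      (1,0), (0,7), (1,9), (0,10), (1,11), (1,12), (0,16), (0,17)],
    [
      (0,3), (1,4)]]),
  (8391797, [
    [
      (0,0), (1,0)],
    [
      (0,0), (1,0), (0,1), (1,1)],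
    [
      (0,0), (1,0), (0,1), (1,1), (0,2), (1,2), (0,3), (1,3)],
    [
      (0,0), (1,0), (0,1), (1,1), (0,2), (1,2), (0,3), (1,3), (0,4), (1,4), (0,5), (1,6), (0,7),
      (1,7)],
    [
      (0,0), (1,0), (0,1), (1,1), (0,2), (0,3), (0,4), (0,5), (1,5), (1,6), (0,7), (0,8), (1,8),
      (1,10), (0,11), (1,11), (0,12), (1,12)],
    [
      (0,0), (1,0), (1,1), (1,2), (0,3), (1,4), (0,5), (0,6), (1,6), (0,7), (0,8), (1,8), (0,9),
      (1,9), (1,11), (1,13), (0,14), (1,15), (1,16)],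
    [
      (0,1), (1,2), (1,3), (0,5), (0,7), (0,10), (0,11), (1,11), (0,12), (1,14)],
    [
      (0,1)]])]

end Cfsg.Lib.Leech
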