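import Mathlib
import Cfsg.Prelude.Def_MonsterType
import Cfsg.Agent.Lib.Leech.Global

/-!
The stabilizer of a minimal vector acting on the classes orthogonal to it: no invariant totally
singular class beyond `0, u`, and trivial action on the orthogonal minimal vectors forces a scalar.
-/

set_option autoImplicit false

namespace Cfsg.Lib.Leech

open Cfsg Cfsg.Lib.Golay

local notation "CC" => supports (golayCode : Set (GolayPt → ZMod 2))

/-- The inner product divided by `8`, modulo `2`, depends only on the classes. -/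
theorem dot_mod_congr (u : leechLattice) {x y : leechLattice} (h : cls x = cls y) :
    dotInt (u : GolayPt → ℤ) x % 16 = dotInt (u : GolayPt → ℤ) y % 16 := by
  obtain ⟨z, hz, e⟩ := cls_eq_iff.1 h
  have e' : dotInt (u : GolayPt → ℤ) x = dotInt (u : GolayPt → ℤ) y + 2 * dotInt (u : GolayPt → ℤ) z := by
    unfold dotInt
    rw [Finset.mul_sum, ← Finset.sum_add_distrib]
    refine Finset.sum_congr rfl fun i _ => ?_
    have := congrFun e i
    simp only [Pi.sub_apply, Pi.smul_apply, nsmul_eq_mul, Nat.cast_ofNat] at this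
    rw [show (x : GolayPt → ℤ) i = (y : GolayPt → ℤ) i + 2 * z i by linarith]
    ring
  have := dot_dvd u ⟨z, hz⟩
  rw [e']
  simp only at this
  omega

theorem dotInt_comm' (x y : GolayPt → ℤ) : dotInt x y = dotInt y x := by
  unfold dotInt; exact Finset.sum_congr rfl fun i _ => mul_comm _ _

theorem dot_mod_congr₂ {x y x' y' : leechLattice} (h : cls x = cls x') (h' : cls y = cls y') :
    dotInt (x : GolayPt → ℤ) y % 16 = dotInt (x' : GolayPt → ℤ) y' % 16 := by
  rw [dot_mod_congr x h', dotInt_comm' _ (y' : GolayPt → ℤ), dot_mod_congr y' h, dotInt_comm']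

theorem cls_add {x y x' y' : leechLattice} (h : cls x = cls x') (h' : cls y = cls y') :
    cls (x + y) = cls (x' + y') := by
  simp only [cls, QuotientAddGroup.mk_add] at *
  rw [h, h']

theorem cls_neg_self (x : leechLattice) : cls (-x) = cls x :=
  cls_eq_iff.2 ⟨-(x : GolayPt → ℤ), neg_mem x.2, by
    rw [two_nsmul, AddSubgroup.coe_neg, sub_eq_add_neg]⟩

theorem dot_add_right (x y z : GolayPt → ℤ) : dotInt x (y + z) = dotInt x y + dotInt x z := by
  rw [dotInt_comm' x, dotInt_add_left, dotInt_comm' y, dotInt_comm' z]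

theorem dot_self (x : GolayPt → ℤ) : dotInt x x = sqNorm x := by
  unfold dotInt sqNorm
  exact Finset.sum_congr rfl fun i _ => (pow_two _).symm

theorem wit_lattice :
    (CheckVec (ofList [0, 4, 4]) ∧ sqNorm (ofList [0, 4, 4]) = 32) ∧
    (CheckVec (ofList [0, 2, 0, 0, 0, 0, 2, 0, 2, 2, 0, 2, 2, 2, 2]) ∧
      sqNorm (ofList [0, 2, 0, 0, 0, 0, 2, 0, 2, 2, 0, 2, 2, 2, 2]) = 32) ∧
    (CheckVec (ofList [0, 4, 0, 0, 0, 0, 0, 0, 0, 0, 0, 0, 0, 0, 0, 0, 0, 0, 0, 0, 0, 0, 0, -4]) ∧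
      sqNorm (ofList [0, 4, 0, 0, 0, 0, 0, 0, 0, 0, 0, 0, 0, 0, 0, 0, 0, 0, 0, 0, 0, 0, 0, -4]) = 32) ∧
    (CheckVec (ofList [-2, 0, 2, 0, 2, 2, 2, 0, 0, 0, 2, 2, 0, 0, 0, 0, 0, 0, 0, 0, 0, 0, 0, -2]) ∧
      sqNorm (ofList [-2, 0, 2, 0, 2, 2, 2, 0, 0, 0, 2, 2, 0, 0, 0, 0, 0, 0, 0, 0, 0, 0, 0, -2]) = 32) ∧
    (CheckVec (ofList [2, 2, 2, 2, 2, 0, 0, 2, 0, 0, 2, 0, 2]) ∧
      sqNorm (ofList [2, 2, 2, 2, 2, 0, 0, 2, 0, 0, 2, 0, 2]) = 32) ∧
    (CheckVec (ofList [-1, -1, -1, -1, 1, -1, -1, -1, 3, 1, -3, 1, -1, -1, -1, -1, -1, 1, -1, 3, -3, 1, -1, -3]) ∧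
      sqNorm (ofList [-1, -1, -1, -1, 1, -1, -1, -1, 3, 1, -3, 1, -1, -1, -1, -1, -1, 1, -1, 3, -3, 1, -1, -3]) = 64) := by
  decide +kernel

theorem wit_dots :
    dotInt (baseVec : GolayPt → ℤ) (ofList [0, 4, 4]) = 0 ∧
    dotInt (baseVec : GolayPt → ℤ) (ofList [0, 2, 0, 0, 0, 0, 2, 0, 2, 2, 0, 2, 2, 2, 2]) = 0 ∧
    dotInt (ofList [0, 4, 4]) (ofList [0, 2, 0, 0, 0, 0, 2, 0, 2, 2, 0, 2, 2, 2, 2]) = 8 ∧
    dotInt (baseVec : GolayPt → ℤ)
      (ofList [0, 4, 0, 0, 0, 0, 0, 0, 0, 0, 0, 0, 0, 0, 0, 0, 0, 0, 0, 0, 0, 0, 0, -4]) = -16 ∧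
    dotInt (baseVec : GolayPt → ℤ)
      (ofList [-2, 0, 2, 0, 2, 2, 2, 0, 0, 0, 2, 2, 0, 0, 0, 0, 0, 0, 0, 0, 0, 0, 0, -2]) = -16 ∧
    dotInt (ofList [0, 4, 0, 0, 0, 0, 0, 0, 0, 0, 0, 0, 0, 0, 0, 0, 0, 0, 0, 0, 0, 0, 0, -4])
      (ofList [-2, 0, 2, 0, 2, 2, 2, 0, 0, 0, 2, 2, 0, 0, 0, 0, 0, 0, 0, 0, 0, 0, 0, -2]) = 8 ∧
    dotInt (ofList [2, 2, 2, 2, 2, 0, 0, 2, 0, 0, 2, 0, 2])
      (ofList [-1, -1, -1, -1, 1, -1, -1, -1, 3, 1, -3, 1, -1, -1, -1, -1, -1, 1, -1, 3, -3, 1, -1, -3]) = -16 ∧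
    dotInt (fun i : GolayPt => if i = none then (8 : ℤ) else 0)
      (ofList [-1, -1, -1, -1, 1, -1, -1, -1, 3, 1, -3, 1, -1, -1, -1, -1, -1, 1, -1, 3, -3, 1, -1, -3]) = -24 ∧
    (ofList [2, 2, 2, 2, 2, 0, 0, 2, 0, 0, 2, 0, 2]) none % 2 = 0 ∧
    twoSet (ofList [2, 2, 2, 2, 2, 0, 0, 2, 0, 0, 2, 0, 2]) ≠ ∅ := by
  decide +kernel

theorem nonorth_min {u w : leechLattice} (hu : sqNorm (u : GolayPt → ℤ) = 32)
    (hw : sqNorm (w : GolayPt → ℤ) = 32) (hd : dotInt (u : GolayPt → ℤ) w % 16 = 0) (hne : cls w ≠ cls u) :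
    ∃ g : Co0, g • u = u ∧ dotInt (w : GolayPt → ℤ) ((g • w : leechLattice) : GolayPt → ℤ) % 16 = 8 := by
  obtain ⟨⟨c1, n1⟩, ⟨c2, n2⟩, ⟨c3, n3⟩, ⟨c4, n4⟩, -, -⟩ := wit_lattice
  obtain ⟨d1, d2, d3, d4, d5, d6, -, -, -, -⟩ := wit_dots
  -- the sign is immaterial
  obtain ⟨w', hw', hcls, hd'⟩ : ∃ w' : leechLattice, sqNorm (w' : GolayPt → ℤ) = 32 ∧ cls w = cls w' ∧
      (dotInt (u : GolayPt → ℤ) w' = -16 ∨ dotInt (u : GolayPt → ℤ) w' = 0) := by
    have hb : -32 < dotInt (u : GolayPt → ℤ) w ∧ dotInt (u : GolayPt → ℤ) w < 32 := by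
      have h1 := sqNorm_nonneg ((u : GolayPt → ℤ) + w)
      have h2 := sqNorm_nonneg ((u : GolayPt → ℤ) + (-w : leechLattice))
      rw [sqNorm_add] at h1 h2
      have e1 : dotInt (u : GolayPt → ℤ) ((-w : leechLattice) : GolayPt → ℤ) = -dotInt (u : GolayPt → ℤ) w := by
        rw [AddSubgroup.coe_neg, dotInt_comm', dotInt_neg_left, dotInt_comm']
      rw [e1, AddSubgroup.coe_neg, neg_norm] at h2
      refine ⟨lt_of_le_of_ne (by omega) fun e => ?_, lt_of_le_of_ne (by omega) fun e => ?_⟩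
      · have h0 : sqNorm ((u + w : leechLattice) : GolayPt → ℤ) = 0 := by
          rw [norm_sum]; omega
        by_cases hz : ((u + w : leechLattice) : GolayPt → ℤ) = 0
        · exact hne (by rw [show w = -u from eq_neg_of_add_eq_zero_right (Subtype.ext hz), cls_neg_self])
        · have := min_norm (u + w).2 hz; omega
      · have h0 : sqNorm ((u + -w : leechLattice) : GolayPt → ℤ) = 0 := by
          rw [norm_sum, e1, AddSubgroup.coe_neg, neg_norm]; omega
        by_cases hz : ((u + -w : leechLattice) : GolayPt → ℤ) = 0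
        · exact hne (congrArg cls (add_neg_eq_zero.1 (Subtype.ext hz : u + -w = 0)).symm)
        · have := min_norm (u + -w).2 hz; omega
    rcases (show dotInt (u : GolayPt → ℤ) w = -16 ∨ dotInt (u : GolayPt → ℤ) w = 0 ∨
        dotInt (u : GolayPt → ℤ) w = 16 by omega) with h | h | h
    · exact ⟨w, hw, rfl, Or.inl h⟩
    · exact ⟨w, hw, rfl, Or.inr h⟩
    · refine ⟨-w, by rw [AddSubgroup.coe_neg, neg_norm, hw], (cls_neg_self w).symm, Or.inl ?_⟩
      rw [AddSubgroup.coe_neg, dotInt_comm', dotInt_neg_left, dotInt_comm', h]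
  suffices ∃ g : Co0, g • u = u ∧
      dotInt (w' : GolayPt → ℤ) ((g • w' : leechLattice) : GolayPt → ℤ) % 16 = 8 by
    obtain ⟨g, h1, h2⟩ := this
    exact ⟨g, h1, by rw [dot_mod_congr₂ hcls (cls_smul g hcls), h2]⟩
  have main : ∀ (d : ℤ), (d = -16 ∨ d = -8 ∨ d = 0) → dotInt (u : GolayPt → ℤ) w' = d →
      ∀ b c : leechLattice, sqNorm (b : GolayPt → ℤ) = 32 → sqNorm (c : GolayPt → ℤ) = 32 →
        dotInt (baseVec : GolayPt → ℤ) b = d → dotInt (baseVec : GolayPt → ℤ) c = d →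
        dotInt (b : GolayPt → ℤ) c = 8 → ∃ g : Co0, g • u = u ∧
          dotInt (w' : GolayPt → ℤ) ((g • w' : leechLattice) : GolayPt → ℤ) % 16 = 8 := by
    intro d hd0 hdd b c hb hc hbd hcd hbc
    obtain ⟨g1, e1, e2⟩ := trans_pair hu hw' baseVec_norm hb hd0 hdd hbd
    obtain ⟨g2, e3, e4⟩ := trans_pair hu hw' baseVec_norm hc hd0 hdd hcd
    refine ⟨g1⁻¹ * g2, by rw [mul_smul, e3, ← e1, inv_smul_smul], ?_⟩
    rw [← co0_dot g1, mul_smul, smul_inv_smul, e2, e4, hbc]
    norm_num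
  rcases hd' with h | h
  · exact main _ (Or.inl rfl) h ⟨_, mem_of_check c3⟩ ⟨_, mem_of_check c4⟩ n3 n4 d4 d5 d6
  · exact main _ (Or.inr (Or.inr rfl)) h ⟨_, mem_of_check c1⟩ ⟨_, mem_of_check c2⟩ n1 n2 d1 d2 d3

theorem monoElt_eight_cls (p : M24 × CC) : cls (monoElt p • eight none) = cls (eight none) := by
  have h : monoElt p • eight none = eight ((p.1 : Equiv.Perm GolayPt) none) ∨
      monoElt p • eight none = -eight ((p.1 : Equiv.Perm GolayPt) none) := by
    by_cases hc : (p.1 : Equiv.Perm GolayPt) none ∈ (p.2 : Finset GolayPt)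
    · refine Or.inr (Subtype.ext (funext fun i => ?_))
      rw [monoElt_apply]
      by_cases hi : i = (p.1 : Equiv.Perm GolayPt) none
      · subst hi; simp [signedPerm, eight_apply, hc]
      · have : (p.1 : Equiv.Perm GolayPt)⁻¹ i ≠ none := fun e => hi (by rw [← e]; simp)
        have h' : (p.1 : Equiv.Perm GolayPt).symm i ≠ none := fun e => hi (by rw [← e]; simp)
        simp [signedPerm, eight_apply, hi, this, h']
    · refine Or.inl (Subtype.ext (funext fun i => ?_))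
      rw [monoElt_apply]
      by_cases hi : i = (p.1 : Equiv.Perm GolayPt) none
      · subst hi; simp [signedPerm, eight_apply, hc]
      · have : (p.1 : Equiv.Perm GolayPt)⁻¹ i ≠ none := fun e => hi (by rw [← e]; simp)
        have h' : (p.1 : Equiv.Perm GolayPt).symm i ≠ none := fun e => hi (by rw [← e]; simp)
        simp [signedPerm, eight_apply, hi, this, h']
  rcases h with h | h <;> rw [h]
  · exact (eight_cls _).1
  · exact (eight_cls _).2

/-- No class other than `0` and `u` orthogonal to `u` is orthogonal to all its images under the stabilizer. -/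
theorem exists_nonorth {u x : leechLattice} (hu : sqNorm (u : GolayPt → ℤ) = 32)
    (hx : sqNorm (x : GolayPt → ℤ) = 32 ∨ sqNorm (x : GolayPt → ℤ) = 64)
    (hd : dotInt (u : GolayPt → ℤ) x % 16 = 0) (hne : cls x ≠ cls u) :
    ∃ g : Co0, g • u = u ∧ dotInt (x : GolayPt → ℤ) ((g • x : leechLattice) : GolayPt → ℤ) % 16 = 8 := by
  obtain ⟨-, -, -, -, ⟨c5, n5⟩, ⟨c6, n6⟩⟩ := wit_lattice
  obtain ⟨-, -, -, -, -, -, d7, d8, d9, d10⟩ := wit_dots
  rcases hx with hx | hx
  · exact nonorth_min hu hx hd hne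
  obtain ⟨h, hh⟩ := trans_cross hx (w := eight none) (eight_norm none)
  set u' := h • u with hu'def
  have hu' : sqNorm (u' : GolayPt → ℤ) = 32 := by rw [hu'def, co0_norm, hu]
  have hev : (u' : GolayPt → ℤ) none % 2 = 0 := by
    rw [← co0_dot h, hh, ← hu'def] at hd
    have e : dotInt (u' : GolayPt → ℤ) ((eight none : leechLattice) : GolayPt → ℤ) = 8 * (u' : GolayPt → ℤ) none := by
      simp [dotInt, eight_apply, mul_comm]
    rw [e] at hd
    omega
  by_cases h2 : twoSet (u' : GolayPt → ℤ) = ∅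
  · -- the class of `x + u` has a minimal vector
    rcases shape32 u'.2 hu' with ⟨O, hO, s⟩ | ⟨A, hA, s⟩ | ⟨p, s⟩
    · exfalso
      rw [twoSet_eq s] at h2
      have := card_octad hO
      rw [h2] at this
      simp at this
    · obtain ⟨a, b, hab, rfl⟩ := Finset.card_eq_two.1 hA
      obtain ⟨w, hw, hwc⟩ : ∃ w : leechLattice, sqNorm (w : GolayPt → ℤ) = 32 ∧
          cls w = cls (u' + eight none) := by
        have hca : cls (eight a) = cls (eight none) := (eight_cls a).1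
        have ha := s a
        simp only [Finset.mem_insert, true_or, if_true] at ha
        rcases abs_eq (by norm_num : (0 : ℤ) ≤ 4) |>.1 ha with e | e
        · refine ⟨u' + -eight a, ?_, cls_add rfl (((cls_neg_self _).trans hca))⟩
          rw [norm_sum, hu', AddSubgroup.coe_neg, neg_norm, eight_norm, dotInt_comm', dotInt_neg_left,
            show dotInt ((eight a : leechLattice) : GolayPt → ℤ) u' = 8 * (u' : GolayPt → ℤ) a by
              simp [dotInt, eight_apply], e]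
          norm_num
        · refine ⟨u' + eight a, ?_, cls_add rfl hca⟩
          rw [norm_sum, hu', eight_norm, dotInt_comm',
            show dotInt ((eight a : leechLattice) : GolayPt → ℤ) u' = 8 * (u' : GolayPt → ℤ) a by
              simp [dotInt, eight_apply], e]
          norm_num
      set v := h⁻¹ • w with hvdef
      have hv : sqNorm (v : GolayPt → ℤ) = 32 := by rw [hvdef, co0_norm, hw]
      have hvc : cls v = cls (u + x) := by
        rw [hvdef, cls_smul h⁻¹ hwc, ← hh, hu'def, ← co0_add, inv_smul_smul]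
      have hvd : dotInt (u : GolayPt → ℤ) v % 16 = 0 := by
        rw [dot_mod_congr u hvc, AddSubgroup.coe_add, dot_add_right, dot_self, hu]
        omega
      have hvne : cls v ≠ cls u := by
        intro e
        rw [hvc] at e
        have : cls x = cls (0 : leechLattice) := by
          simp only [cls, QuotientAddGroup.mk_add, QuotientAddGroup.mk_zero] at e ⊢
          simpa using e
        obtain ⟨z, hz, e'⟩ := cls_eq_iff.1 this
        rcases congr_cases (y := (0 : GolayPt → ℤ)) x.2 (fun e0 => by rw [e0] at hx; simp [sqNorm] at hx) hx.le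
          (by simp [sqNorm]) ⟨z, hz, by simpa using e'⟩ with q | ⟨-, q, -⟩
        · rw [q] at hx; simp [sqNorm] at hx
        · simp [sqNorm] at q
      obtain ⟨g, hgu, hgd⟩ := nonorth_min hu hv hvd hvne
      refine ⟨g, hgu, ?_⟩
      rw [dot_mod_congr₂ hvc (cls_smul g hvc), co0_add, hgu, AddSubgroup.coe_add, AddSubgroup.coe_add,
        dot_add_right, dotInt_add_left, dotInt_add_left, dot_self, hu] at hgd
      have e1 : dotInt (x : GolayPt → ℤ) u % 16 = 0 := by rw [dotInt_comm']; exact hd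
      have e2 : dotInt (u : GolayPt → ℤ) ((g • x : leechLattice) : GolayPt → ℤ) % 16 = 0 := by
        conv_lhs => rw [← hgu, co0_dot]
        exact hd
      omega
    · exfalso
      have := s none
      rcases abs_cases ((u' : GolayPt → ℤ) none) with ⟨e, -⟩ | ⟨e, -⟩ <;> rw [e] at this <;>
        split at this <;> omega
  · -- the octad case
    let u0 : leechLattice := ⟨_, mem_of_check c5⟩
    let y : leechLattice := ⟨_, mem_of_check c6⟩
    obtain ⟨h1, e1⟩ := trans_cross (v := y) n6 (w := eight none) (eight_norm none)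
    set u'' := h1 • u0 with hu''def
    have hu'' : sqNorm (u'' : GolayPt → ℤ) = 32 := by rw [hu''def, co0_norm]; exact n5
    have hdot : dotInt (u'' : GolayPt → ℤ) ((eight none : leechLattice) : GolayPt → ℤ) = -16 := by
      rw [hu''def, ← e1, co0_dot]; exact d7
    have hval : (u'' : GolayPt → ℤ) none = -2 := by
      have e : dotInt (u'' : GolayPt → ℤ) ((eight none : leechLattice) : GolayPt → ℤ) =
          8 * (u'' : GolayPt → ℤ) none := by simp [dotInt, eight_apply, mul_comm]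
      rw [e] at hdot; omega
    have h2'' : twoSet (u'' : GolayPt → ℤ) ≠ ∅ := by
      apply Finset.nonempty_iff_ne_empty.1
      exact ⟨none, by simp [twoSet, hval]⟩
    obtain ⟨p, -, hp⟩ := mono_rel32 ∅ (by simp)
      (fun O O' hO hO' _ => by obtain ⟨σ, h, e⟩ := octad_transitive hO hO'; exact ⟨σ, h, by simp, e⟩)
      hu' hu'' ⟨by rw [hev, hval]; rfl, iff_of_false h2 h2''⟩ (by simp)
    obtain ⟨q, -, hq⟩ := mono_rel32 ∅ (by simp)
      (fun O O' hO hO' _ => by obtain ⟨σ, h, e⟩ := octad_transitive hO hO'; exact ⟨σ, h, by simp, e⟩)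
      hu' (y := u0) n5 ⟨by rw [hev]; exact d9.symm, iff_of_false h2 d10⟩ (by simp)
    -- `g1` and `g2` send `u` to `u0`, and `x` to the classes of `eight none` and of `y`
    set g1 := monoElt q * h with hg1
    set g2 := h1⁻¹ * monoElt p * h with hg2
    have a1 : g1 • u = u0 := by rw [hg1, mul_smul, ← hu'def, hq]
    have a2 : g2 • u = u0 := by rw [hg2, mul_smul, mul_smul, ← hu'def, hp, hu''def, inv_smul_smul]
    have b1 : cls (g1 • x) = cls (eight none) := by rw [hg1, mul_smul, hh]; exact monoElt_eight_cls q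
    have b2 : cls (g2 • x) = cls y := by
      rw [hg2, mul_smul, mul_smul, hh, cls_smul h1⁻¹ (monoElt_eight_cls p), ← e1, inv_smul_smul]
    refine ⟨g1⁻¹ * g2, by rw [mul_smul, a2, ← a1, inv_smul_smul], ?_⟩
    rw [← co0_dot g1, smul_smul g1, ← mul_assoc, mul_inv_cancel, one_mul, dot_mod_congr₂ b1 b2,
      show ((eight none : leechLattice) : GolayPt → ℤ) = fun i => if i = none then (8 : ℤ) else 0 from
        funext fun i => eight_apply none i]
    show dotInt _ (ofList _) % 16 = 8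
    rw [d8]
    norm_num

/-- An automorphism fixing `baseVec` and mapping every orthogonal minimal vector to itself up to sign is trivial. -/
theorem trivial_of_perp {g : Co0} (hb : g • baseVec = baseVec)
    (h : ∀ x : leechLattice, sqNorm (x : GolayPt → ℤ) = 32 → dotInt (baseVec : GolayPt → ℤ) x = 0 →
      g • x = x ∨ g • x = -x) : g = 1 := by
  have sgn : ∀ x : leechLattice, sqNorm (x : GolayPt → ℤ) = 32 → dotInt (baseVec : GolayPt → ℤ) x = 0 →
      ∃ ε : ℤ, (ε = 1 ∨ ε = -1) ∧ g • x = ε • x := fun x hx hd => by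
    rcases h x hx hd with e | e
    · exact ⟨1, Or.inl rfl, by rw [e, one_zsmul]⟩
    · exact ⟨-1, Or.inr rfl, by rw [e, neg_one_zsmul]⟩
  have hperp : ∀ i j : GolayPt, i ≠ ptA → i ≠ ptB → j ≠ ptA → j ≠ ptB →
      dotInt (baseVec : GolayPt → ℤ) (plusVec i j : leechLattice) = 0 ∧
      dotInt (baseVec : GolayPt → ℤ) (minusVec i j : leechLattice) = 0 := by
    intro i j a b c d
    rw [dot_base, dot_base]
    simp [plusVec, minusVec, a.symm, b.symm, c.symm, d.symm]
  have key : ∀ i j : GolayPt, i ≠ ptA → i ≠ ptB → j ≠ ptA → j ≠ ptB → i ≠ j →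
      ∃ σ τ : ℤ, (σ = 1 ∨ σ = -1) ∧ g • plusVec i j = σ • plusVec i j ∧
        g • eight i = σ • plusVec i j + τ • minusVec i j := by
    intro i j a b c d e
    obtain ⟨σ, hσ, eσ⟩ := sgn _ (plusVec_norm i j e) (hperp i j a b c d).1
    obtain ⟨τ, -, eτ⟩ := sgn _ (minusVec_norm i j e) (hperp i j a b c d).2
    exact ⟨σ, τ, hσ, eσ, by rw [← plus_add_minus i j, co0_add, eσ, eτ]⟩
  -- a common sign
  let a0 : GolayPt := some 1
  let a1 : GolayPt := some 2
  have ha0 : a0 ≠ ptA ∧ a0 ≠ ptB ∧ a1 ≠ ptA ∧ a1 ≠ ptB ∧ a0 ≠ a1 := by decide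
  have fixed : ∀ i j k : GolayPt, i ≠ ptA → i ≠ ptB → j ≠ ptA → j ≠ ptB → k ≠ ptA → k ≠ ptB →
      i ≠ j → i ≠ k → j ≠ k → ∀ σ : ℤ, g • plusVec i j = σ • plusVec i j →
      g • eight i = σ • eight i ∧ g • plusVec i k = σ • plusVec i k := by
    intro i j k ia ib ja jb ka kb hij hik hjk σ hσ
    obtain ⟨σ', τ, hσ', eσ', e1⟩ := key i j ia ib ja jb hij
    obtain ⟨σ'', τ', hσ'', eσ'', e2⟩ := key i k ia ib ka kb hik
    have hσσ : σ' = σ := by
      have := congrFun (congrArg Subtype.val (eσ'.symm.trans hσ)) i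
      simp [plusVec, hij] at this
      omega
    have hi := congrFun (congrArg Subtype.val (e1.symm.trans e2)) i
    have hj := congrFun (congrArg Subtype.val (e1.symm.trans e2)) j
    simp [plusVec, minusVec, hij, hik, hjk, hij.symm] at hi hj
    have ht : τ = σ := by omega
    have hs : σ'' = σ := by
      have hk := congrFun (congrArg Subtype.val (e1.symm.trans e2)) k
      simp [plusVec, minusVec, hik, hik.symm, hjk.symm] at hk
      omega
    refine ⟨?_, hs ▸ eσ''⟩
    rw [e1, hσσ, ht, ← zsmul_add, plus_add_minus]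
  obtain ⟨ε, -, hε, -, -⟩ := key a0 a1 ha0.1 ha0.2.1 ha0.2.2.1 ha0.2.2.2.1 ha0.2.2.2.2
  obtain ⟨ε', hε1, hε'⟩ : ∃ ε' : ℤ, (ε' = 1 ∨ ε' = -1) ∧ g • plusVec a0 a1 = ε' • plusVec a0 a1 :=
    sgn _ (plusVec_norm _ _ ha0.2.2.2.2) (hperp _ _ ha0.1 ha0.2.1 ha0.2.2.1 ha0.2.2.2.1).1
  have height : ∀ i : GolayPt, i ≠ ptA → i ≠ ptB → g • eight i = ε' • eight i := by
    intro i ia ib
    have hpc : plusVec a0 a1 = plusVec a1 a0 := Subtype.ext (funext fun k => add_comm _ _)
    obtain ⟨k, hk⟩ : ∃ k : GolayPt, k ≠ ptA ∧ k ≠ ptB ∧ k ≠ a0 ∧ k ≠ a1 := ⟨some 3, by decide⟩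
    by_cases h0 : i = a0
    · subst h0
      exact (fixed _ a1 k ia ib ha0.2.2.1 ha0.2.2.2.1 hk.1 hk.2.1 ha0.2.2.2.2 hk.2.2.1.symm hk.2.2.2.symm _ hε').1
    by_cases h1 : i = a1
    · subst h1
      exact (fixed _ a0 k ia ib ha0.1 ha0.2.1 hk.1 hk.2.1 ha0.2.2.2.2.symm hk.2.2.2.symm hk.2.2.1.symm _
        (hpc ▸ hε')).1
    have h2 := (fixed a0 a1 i ha0.1 ha0.2.1 ha0.2.2.1 ha0.2.2.2.1 ia ib ha0.2.2.2.2 (Ne.symm h0) (Ne.symm h1) _
      hε').2
    have hc : plusVec a0 i = plusVec i a0 := Subtype.ext (funext fun m => add_comm _ _)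
    exact (fixed i a0 a1 ia ib ha0.1 ha0.2.1 ha0.2.2.1 ha0.2.2.2.1 h0 h1 ha0.2.2.2.2 _ (hc ▸ h2)).1
  have hd0 : dotInt (baseVec : GolayPt → ℤ) (minusVec ptA ptB : leechLattice) = 0 := by
    rw [dot_base]; simp [minusVec, ptA, ptB]
  obtain ⟨η, hη1, hη⟩ := sgn _ (minusVec_norm ptA ptB (by decide)) hd0
  have hAB : ∀ v : leechLattice, g • ((8 : ℤ) • v) =
      ε' • ((8 : ℤ) • v) + ((v : GolayPt → ℤ) ptA) • (baseVec + η • minusVec ptA ptB - ε' • eight ptA) +
        ((v : GolayPt → ℤ) ptB) • (baseVec + (-η) • minusVec ptA ptB - ε' • eight ptB) := by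
    intro v
    have hA : g • eight ptA = baseVec + η • minusVec ptA ptB := by
      rw [← plus_add_minus ptA ptB, co0_add, hη]
      exact congrArg (· + _) hb
    have hB : g • eight ptB = baseVec + (-η) • minusVec ptA ptB := by
      have e : eight ptB = baseVec + -minusVec ptA ptB := Subtype.ext (funext fun i => by
        simp only [baseVec, plusVec, minusVec, AddSubgroup.coe_add, AddSubgroup.coe_neg, Pi.add_apply, Pi.neg_apply,
          eight_apply]
        split <;> split <;> norm_num)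
      rw [e, co0_add, hb, co0_neg, hη, neg_zsmul]
    have hrest : ∀ i, ((v : GolayPt → ℤ) i) • (g • eight i) = ε' • (((v : GolayPt → ℤ) i) • eight i) +
        (if i = ptA then ((v : GolayPt → ℤ) ptA) • (baseVec + η • minusVec ptA ptB - ε' • eight ptA) else 0) +
        (if i = ptB then ((v : GolayPt → ℤ) ptB) • (baseVec + (-η) • minusVec ptA ptB - ε' • eight ptB)
          else 0) := by
      intro i
      by_cases ia : i = ptA
      · subst ia
        rw [hA, if_pos rfl, if_neg (by decide), add_zero, zsmul_sub, smul_comm ε']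
        abel
      by_cases ib : i = ptB
      · subst ib
        rw [hB, if_neg (by decide), if_pos rfl, add_zero, zsmul_sub, smul_comm ε']
        abel
      rw [if_neg ia, if_neg ib, add_zero, add_zero, height i ia ib, smul_comm]
    rw [eight_decomp, co0_sum]
    simp only [co0_zsmul, hrest, Finset.sum_add_distrib, Finset.sum_ite_eq', Finset.mem_univ, if_true,
      ← Finset.smul_sum]
  -- compare coordinates
  have coord : ∀ (v : leechLattice) (i : GolayPt), 8 * ((g • v : leechLattice) : GolayPt → ℤ) i =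
      ε' * (8 * (v : GolayPt → ℤ) i) +
        (v : GolayPt → ℤ) ptA * ((baseVec : GolayPt → ℤ) i + η * (minusVec ptA ptB : leechLattice).1 i -
          ε' * (eight ptA : leechLattice).1 i) +
        (v : GolayPt → ℤ) ptB * ((baseVec : GolayPt → ℤ) i + -η * (minusVec ptA ptB : leechLattice).1 i -
          ε' * (eight ptB : leechLattice).1 i) := by
    intro v i
    have := congrFun (congrArg Subtype.val (hAB v)) i
    rw [co0_zsmul] at this
    simpa using this
  -- an octad vector through both special points with opposite signs fixes the second sign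
  obtain ⟨t, ht, htd, htA, i, hia, hib, hi⟩ : ∃ t : leechLattice, sqNorm (t : GolayPt → ℤ) = 32 ∧
      dotInt (baseVec : GolayPt → ℤ) t = 0 ∧ ((t : GolayPt → ℤ) ptA = -2 ∧ (t : GolayPt → ℤ) ptB = 2) ∧
      ∃ i, i ≠ ptA ∧ i ≠ ptB ∧ (t : GolayPt → ℤ) i ≠ 0 := by
    have c : CheckVec (ofList [2, 0, -2, 0, 2, 2, 2, 0, 0, 0, 2, 2, 0, 0, 0, 0, 0, 0, 0, 0, 0, 0, 0, -2]) ∧
        sqNorm (ofList [2, 0, -2, 0, 2, 2, 2, 0, 0, 0, 2, 2, 0, 0, 0, 0, 0, 0, 0, 0, 0, 0, 0, -2]) = 32 ∧
        dotInt (baseVec : GolayPt → ℤ)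
          (ofList [2, 0, -2, 0, 2, 2, 2, 0, 0, 0, 2, 2, 0, 0, 0, 0, 0, 0, 0, 0, 0, 0, 0, -2]) = 0 ∧
        (ofList [2, 0, -2, 0, 2, 2, 2, 0, 0, 0, 2, 2, 0, 0, 0, 0, 0, 0, 0, 0, 0, 0, 0, -2] ptA = -2 ∧
          ofList [2, 0, -2, 0, 2, 2, 2, 0, 0, 0, 2, 2, 0, 0, 0, 0, 0, 0, 0, 0, 0, 0, 0, -2] ptB = 2) ∧
        ofList [2, 0, -2, 0, 2, 2, 2, 0, 0, 0, 2, 2, 0, 0, 0, 0, 0, 0, 0, 0, 0, 0, 0, -2] (some 2) ≠ 0 := by
      decide +kernel
    exact ⟨⟨_, mem_of_check c.1⟩, c.2.1, c.2.2.1, c.2.2.2.1, some 2, by decide, by decide, c.2.2.2.2⟩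
  have hεη : ε' = η := by
    obtain ⟨δ, -, hδ⟩ := sgn t ht htd
    have h1 := coord t ptA
    have h2 := coord t i
    have p1 := congrFun (congrArg Subtype.val hδ) ptA
    have p2 := congrFun (congrArg Subtype.val hδ) i
    simp [baseVec, plusVec, minusVec, eight_apply, ptA, ptB] at h1 h2 p1 p2
    simp [ptA, ptB] at hia hib htA
    simp [hia, hib] at h2
    rw [p1, htA.1, htA.2] at h1
    rw [p2] at h2
    have : δ = ε' := mul_right_cancel₀ hi (by linarith)
    omega
  subst hεη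
  rcases hε1 with rfl | rfl
  · refine co0_ext fun v => funext fun i => ?_
    have := coord v i
    simp only [baseVec, plusVec, minusVec, eight_apply, one_smul] at this ⊢
    split at this <;> split at this <;> omega
  · exfalso
    have hu := mem_of_check check_uVec
    have h := coord ⟨uVec, hu⟩
    obtain ⟨k, hk⟩ : ∃ k : GolayPt, k ≠ ptA ∧ k ≠ ptB := ⟨some 1, by decide⟩
    have hp := (mem_lattice_iff.1 (g • (⟨uVec, hu⟩ : leechLattice)).2).2.2
    have hval : ∀ i, ((g • (⟨uVec, hu⟩ : leechLattice) : leechLattice) : GolayPt → ℤ) i =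
        if i = ptA then uVec ptB else if i = ptB then uVec ptA else -uVec i := by
      intro i
      have := h i
      simp only [baseVec, plusVec, minusVec, eight_apply, ptA, ptB] at this ⊢
      by_cases ia : i = none
      · subst ia; simp at this ⊢; omega
      by_cases ib : i = some 0
      · subst ib; simp at this ⊢; omega
      simp [ia, ib] at this ⊢
      omega
    have hne : ¬ ((∑ i, (if i = ptA then uVec ptB else if i = ptB then uVec ptA else -uVec i)) % 8 =
        (4 * (if (none : GolayPt) = ptA then uVec ptB else 0)) % 8) := by decide +kernel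
    apply hne
    rw [if_pos (by rfl), Finset.sum_congr rfl fun i _ => (hval i).symm, hp, hval none, if_pos (by rfl)]

end Cfsg.Lib.Leech
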