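import Mathlib
import Cfsg.Prelude.Def_Sporadic_a
import Cfsg.Agent.Lib.Leech.Fuse
import Cfsg.Agent.Lib.Leech.Classes
import Cfsg.Agent.Lib.Leech.PairCounts

/-!
Vectors of norm 48 and 64 as sums of two minimal vectors; counts relative to a minimal vector.
-/

set_option autoImplicit false
set_option linter.unusedSimpArgs false

namespace Cfsg.Lib.Leech

open Cfsg Cfsg.Lib.Golay
open scoped Pointwise

local notation "CC" => supports (golayCode : Set (GolayPt → ZMod 2))

/-- An automorphism moves the vectors with given norm and inner product with `v` onto the corresponding ones. -/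
theorem ncard_dot_smul (g : Co0) (v : leechLattice) (N d : ℤ) :
    {w : GolayPt → ℤ | w ∈ leechLattice ∧ sqNorm w = N ∧ dotInt (v : GolayPt → ℤ) w = d}.ncard =
      {w : GolayPt → ℤ | w ∈ leechLattice ∧ sqNorm w = N ∧
        dotInt ((g • v : leechLattice) : GolayPt → ℤ) w = d}.ncard := by
  refine Set.ncard_congr (fun w hw => ((g • (⟨w, hw.1⟩ : leechLattice) : leechLattice) : GolayPt → ℤ)) ?_ ?_ ?_
  · rintro w ⟨h1, h2, h3⟩
    exact ⟨(g • (⟨w, h1⟩ : leechLattice)).2, by rw [co0_norm]; exact h2, by rw [co0_dot]; exact h3⟩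
  · intro a b ha hb e
    exact congrArg Subtype.val (smul_left_cancel g (Subtype.ext e : g • (⟨a, ha.1⟩ : leechLattice) = g • ⟨b, hb.1⟩))
  · rintro w ⟨h1, h2, h3⟩
    refine ⟨((g⁻¹ • (⟨w, h1⟩ : leechLattice) : leechLattice) : GolayPt → ℤ),
      ⟨(g⁻¹ • (⟨w, h1⟩ : leechLattice)).2, by rw [co0_norm]; exact h2, ?_⟩, ?_⟩
    · rw [← co0_dot g, smul_inv_smul]; exact h3
    · exact congrArg Subtype.val (smul_inv_smul g (⟨w, h1⟩ : leechLattice))

theorem ncard_dot (v : leechLattice) (hv : sqNorm (v : GolayPt → ℤ) = 32) (N : ℕ) (hN : N ≤ 64) (s : ℤ) :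
    {w : GolayPt → ℤ | w ∈ leechLattice ∧ sqNorm w = N ∧ dotInt (v : GolayPt → ℤ) w = 4 * s}.ncard =
      sumTotal N s := by
  obtain ⟨g, hg⟩ := exists_to_base32 hv
  rw [ncard_dot_smul g v, hg, ← ncard_sum N hN s]
  congr 1
  ext w
  simp only [Set.mem_ofPred_eq, dot_base, ptA, ptB]
  refine and_congr_right fun _ => and_congr_right fun _ => ?_
  omega

theorem dot_counts (v : leechLattice) (hv : sqNorm (v : GolayPt → ℤ) = 32) :
    {w : GolayPt → ℤ | w ∈ leechLattice ∧ sqNorm w = 32 ∧ dotInt (v : GolayPt → ℤ) w = -16}.ncard = 4600 ∧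
    {w : GolayPt → ℤ | w ∈ leechLattice ∧ sqNorm w = 32 ∧ dotInt (v : GolayPt → ℤ) w = -8}.ncard = 47104 ∧
    {w : GolayPt → ℤ | w ∈ leechLattice ∧ sqNorm w = 32 ∧ dotInt (v : GolayPt → ℤ) w = 0}.ncard = 93150 := by
  have h1 := ncard_dot v hv 32 (by omega) (-4)
  have h2 := ncard_dot v hv 32 (by omega) (-2)
  have h3 := ncard_dot v hv 32 (by omega) 0
  obtain ⟨e1, e2, e3⟩ := sumTotal32
  rw [e1] at h1; rw [e2] at h2; rw [e3] at h3
  exact ⟨by simpa using h1, by simpa using h2, by simpa using h3⟩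

/-- The chosen decompositions of the four shapes in norm 48. -/
def decomps : List (List ℤ × List ℤ) := [
  ([2, 0, 0, 2, 0, 2, 0, 2, 0, 0, 0, 0, 2, 0, 2, 2, 2, 0, 0, 0, 0, 0, 0, 0],
   [0, 0, 2, 0, 0, -2, 0, -2, 0, 0, 0, 0, 0, 0, 0, 0, 0, 0, 2, 2, 2, 2, 2, 0]),
  ([0, 4, 0, 0, 0, 4, 0, 0, 0, 0, 0, 0, 0, 0, 0, 0, 0, 0, 0, 0, 0, 0, 0, 0],
   [-2, -2, 2, 2, 2, 0, 0, 2, 0, 0, 2, 0, 2, 0, 0, 0, 0, 0, 0, 0, 0, 0, 0, 0]),
  ([-4, -4, 0, 0, 0, 0, 0, 0, 0, 0, 0, 0, 0, 0, 0, 0, 0, 0, 0, 0, 0, 0, 0, 0],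
   [1, 1, -3, 1, 1, 1, 1, 1, 1, 1, 1, 1, 1, 1, 1, 1, 1, 1, 1, 1, 1, 1, 1, 1]),
  ([4, 4, 0, 0, 0, 0, 0, 0, 0, 0, 0, 0, 0, 0, 0, 0, 0, 0, 0, 0, 0, 0, 0, 0],
   [1, -3, 1, 1, 1, 1, 1, 1, 1, 1, 1, 1, 1, 1, 1, 1, 1, 1, 1, 1, 1, 1, 1, 1])]

theorem decomps_check : ∀ q ∈ decomps, (CheckVec (ofList q.1) ∧ sqNorm (ofList q.1) = 32) ∧
    (CheckVec (ofList q.2) ∧ sqNorm (ofList q.2) = 32) ∧ dotInt (ofList q.1) (ofList q.2) = -8 := by
  decide +kernel

/-- The sum of the decomposition with index `k`. -/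
def decompSum (k : ℕ) : GolayPt → ℤ := ofList (decomps.getD k ([], [])).1 + ofList (decomps.getD k ([], [])).2

theorem decompSum_shapes :
    (∀ i, |decompSum 0 i| = if i ∈ toSet 8245261 then 2 else 0) ∧ inCode 8245261 = true ∧ pop 8245261 = 12 ∧
    (∀ i, |decompSum 1 i| = if i ∈ toSet 5279 then 2 else if i = pt 5 then 4 else 0) ∧
      inCode 5279 = true ∧ pop 5279 = 8 ∧ pt 5 ∉ toSet 5279 ∧
    (∀ i, |decompSum 2 i| = if i ∈ toSet 7 then 3 else 1) ∧ pop 7 = 3 ∧
    (∀ i, |decompSum 3 i| = if i ∈ ({pt 0} : Finset GolayPt) then 5 else 1) := by decide +kernel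

/-- The vector of a chosen decomposition. -/
def decompVec (k : Fin 4) : leechLattice :=
  ⟨decompSum k.val, add_mem (mem_of_check (decomps_check _ (List.getElem_mem k.isLt)).1.1 |> fun h => by
      rwa [List.getD_eq_getElem _ _ k.isLt])
    (mem_of_check (decomps_check _ (List.getElem_mem k.isLt)).2.1.1 |> fun h => by
      rwa [List.getD_eq_getElem _ _ k.isLt])⟩

theorem decompVec_split (k : Fin 4) : ∃ a b : leechLattice, sqNorm (a : GolayPt → ℤ) = 32 ∧
    sqNorm (b : GolayPt → ℤ) = 32 ∧ dotInt (a : GolayPt → ℤ) b = -8 ∧ decompVec k = a + b := by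
  have h := decomps_check _ (List.getElem_mem (l := decomps) (n := k.val) k.isLt)
  refine ⟨⟨_, mem_of_check h.1.1⟩, ⟨_, mem_of_check h.2.1.1⟩, h.1.2, h.2.1.2, h.2.2, Subtype.ext ?_⟩
  show decompSum k.val = _
  rw [decompSum, List.getD_eq_getElem _ _ k.isLt]
  rfl

theorem toSet_octad_mem {n : ℕ} (h : inCode n = true) {k : ℕ} (hk : pop n = k) :
    toSet n ∈ wordsOfWeight (golayCode : Set (GolayPt → ZMod 2)) k := ⟨toSet_mem_CC h, by rw [card_toSet, hk]⟩

theorem mono_to_decomp {x : leechLattice} (hx : sqNorm (x : GolayPt → ℤ) = 48) :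
    ∃ (g : Co0) (k : Fin 4), g • x = decompVec k := by
  obtain ⟨s0, c0, p0, s1, c1, p1, q1, s2, p2, s3⟩ := decompSum_shapes
  have hD := toSet_octad_mem c0 p0
  have hO := toSet_octad_mem c1 p1
  have hodd : ∀ {z : GolayPt → ℤ} {A : Finset GolayPt} {a : ℤ}, AbsShape z A a 1 → a % 2 = 1 → z none % 2 ≠ 0 := by
    intro z A a hz ha
    rw [even_iff_abs, hz none]
    split <;> omega
  rcases shape48 x.2 hx with ⟨D, hD', sx⟩ | ⟨O, hO', q, hq, sx⟩ | ⟨A, hA, sx⟩ | ⟨p, sx⟩
  · obtain ⟨σ, hσ, hs⟩ := dodecad_transitive hD' hD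
    have hsm : (∀ i, |decompSum 0 i| = 0 ∨ |decompSum 0 i| = 2 ∨ |decompSum 0 i| = 4) ∧
        twoSet (decompSum 0) ∈ CC ∧
        2 * ((Finset.univ.filter fun i => decompSum 0 i ≠ 0) ∪ ∅ \ twoSet (decompSum 0)).card <
          16 + (twoSet (decompSum 0)).card := by
      refine ⟨fun i => by rw [s0 i]; split <;> simp, by rw [twoSet_eq s0]; exact hD.1, ?_⟩
      rw [Finset.empty_sdiff, Finset.union_empty, twoSet_eq s0]
      have h1 := Finset.card_le_card (support_subset s0)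
      have h2 : (toSet 8245261).card = 12 := hD.2
      omega
    obtain ⟨p, -, he⟩ := exists_monomial (x := x) (y := decompVec 0) ∅ σ hσ (by simp) (abs_of_smul sx s0 hs)
      (by simp) (fun _ => hsm)
    exact ⟨monoElt p, 0, he⟩
  · obtain ⟨a, ha, hao⟩ := exists_to_baseO hO'
    obtain ⟨b, hb, hbo⟩ := exists_to_baseO hO
    have hmove : ∀ (o : Finset GolayPt) (r : GolayPt) (c : Equiv.Perm GolayPt), c ∈ M24 → c • o = baseO → r ∉ o →
        ∃ σ ∈ M24, σ • o = baseO ∧ σ r = baseP 5 := by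
      intro o r c hc hco hr
      have hadm : Admissible 5 (c r) := by
        refine ⟨fun j hj e => hr ?_, fun _ hmem => hr ?_, fun h => absurd h (by omega)⟩
        · rw [← Finset.smul_mem_smul_finset_iff c, hco, Equiv.Perm.smul_def, ← e]; exact baseP_mem_baseO hj
        · rwa [← Finset.smul_mem_smul_finset_iff c, hco, Equiv.Perm.smul_def]
      obtain ⟨u, ⟨hu, hu'⟩, hup⟩ := exists_transversal (by omega) hadm
      refine ⟨u⁻¹ * c, Subgroup.mul_mem _ (Subgroup.inv_mem _ (stdGroup_le_M24 hu)) hc, ?_, ?_⟩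
      · rw [mul_smul, hco, inv_smul_eq_iff, smul_baseO le_rfl hu']
      · rw [Equiv.Perm.mul_apply, ← hup, Equiv.Perm.inv_def, Equiv.symm_apply_apply]
    obtain ⟨σ1, h1, e1, f1⟩ := hmove O q a ha hao hq
    obtain ⟨σ2, h2, e2, f2⟩ := hmove _ _ b hb hbo q1
    have hs : (σ2⁻¹ * σ1) • O = toSet 5279 := by rw [mul_smul, e1, ← e2, inv_smul_smul]
    have hsq : (σ2⁻¹ * σ1) q = pt 5 := by
      rw [Equiv.Perm.mul_apply, f1, ← f2, Equiv.Perm.inv_def, Equiv.symm_apply_apply]
    have habs : ∀ i, |(x : GolayPt → ℤ) i| = |decompSum 1 ((σ2⁻¹ * σ1) i)| := by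
      intro i
      rw [sx i, s1]
      have h1 : (σ2⁻¹ * σ1) i ∈ toSet 5279 ↔ i ∈ O := by
        rw [← hs, ← Equiv.Perm.smul_def, Finset.smul_mem_smul_finset_iff]
      have h2 : (σ2⁻¹ * σ1) i = pt 5 ↔ i = q := by rw [← hsq, EmbeddingLike.apply_eq_iff_eq]
      simp only [h1, h2]
    have htwo : twoSet (decompSum 1) = toSet 5279 := by
      ext i
      simp only [twoSet, Finset.mem_filter, Finset.mem_univ, true_and, s1 i]
      by_cases h : i ∈ toSet 5279 <;> by_cases h' : i = pt 5 <;> simp [h, h']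
    have hsm : (∀ i, |decompSum 1 i| = 0 ∨ |decompSum 1 i| = 2 ∨ |decompSum 1 i| = 4) ∧
        twoSet (decompSum 1) ∈ CC ∧
        2 * ((Finset.univ.filter fun i => decompSum 1 i ≠ 0) ∪ ∅ \ twoSet (decompSum 1)).card <
          16 + (twoSet (decompSum 1)).card := by
      refine ⟨fun i => by rw [s1 i]; split <;> [skip; split] <;> simp, by rw [htwo]; exact hO.1, ?_⟩
      rw [Finset.empty_sdiff, Finset.union_empty, htwo, hO.2]
      have : (Finset.univ.filter fun i => decompSum 1 i ≠ 0) ⊆ insert (pt 5) (toSet 5279) := by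
        intro i hi
        have h := s1 i
        by_contra hn
        rw [Finset.mem_insert, not_or] at hn
        rw [if_neg hn.2, if_neg hn.1, abs_eq_zero] at h
        exact (Finset.mem_filter.1 hi).2 h
      have h1 := Finset.card_le_card this
      have h2 := Finset.card_insert_le (pt 5) (toSet 5279)
      rw [hO.2] at h2
      omega
    obtain ⟨p, -, he⟩ := exists_monomial (x := x) (y := decompVec 1) ∅ _
      (Subgroup.mul_mem _ (Subgroup.inv_mem _ h2) h1) (by simp) habs (by simp) (fun _ => hsm)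
    exact ⟨monoElt p, 1, he⟩
  · obtain ⟨σ, hσ, -, hs⟩ := exists_perm_sets ∅ A (toSet 7) (by simp) (by simp) (by rw [hA, card_toSet, p2])
      (by simp; omega)
    obtain ⟨p, -, he⟩ := exists_monomial (x := x) (y := decompVec 2) ∅ σ hσ (by simp) (abs_of_smul sx s2 hs)
      (by simp) fun h => absurd h (hodd s2 (by norm_num))
    exact ⟨monoElt p, 2, he⟩
  · obtain ⟨σ, hσ, -, hs⟩ := exists_perm_sets ∅ {p} {pt 0} (by simp) (by simp) rfl (by simp)
    obtain ⟨p', -, he⟩ := exists_monomial (x := x) (y := decompVec 3) ∅ σ hσ (by simp) (abs_of_smul sx s3 hs)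
      (by simp) fun h => absurd h (hodd s3 (by norm_num))
    exact ⟨monoElt p', 3, he⟩

theorem split48 {u : leechLattice} (hu : sqNorm (u : GolayPt → ℤ) = 48) :
    ∃ a b : leechLattice, sqNorm (a : GolayPt → ℤ) = 32 ∧ sqNorm (b : GolayPt → ℤ) = 32 ∧
      dotInt (a : GolayPt → ℤ) b = -8 ∧ u = a + b := by
  obtain ⟨g, k, hg⟩ := mono_to_decomp hu
  obtain ⟨a, b, ha, hb, hab, e⟩ := decompVec_split k
  exact ⟨g⁻¹ • a, g⁻¹ • b, by rw [co0_norm, ha], by rw [co0_norm, hb], by rw [co0_dot, hab],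
    by rw [← co0_add, ← e, ← hg, inv_smul_smul]⟩

theorem trans_pair {a b a' b' : leechLattice} (ha : sqNorm (a : GolayPt → ℤ) = 32)
    (hb : sqNorm (b : GolayPt → ℤ) = 32) (ha' : sqNorm (a' : GolayPt → ℤ) = 32) (hb' : sqNorm (b' : GolayPt → ℤ) = 32)
    {d : ℤ} (hd0 : d = -16 ∨ d = -8 ∨ d = 0) (hd : dotInt (a : GolayPt → ℤ) b = d)
    (hd' : dotInt (a' : GolayPt → ℤ) b' = d) : ∃ g : Co0, g • a = a' ∧ g • b = b' := by
  obtain ⟨g, hg⟩ := trans32 ha ha'
  obtain ⟨k, hk1, hk2⟩ := trans_dot ha' (w := g • b) (by rw [co0_norm, hb]) hb' hd0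
    (by rw [← hg, co0_dot, hd]) hd'
  exact ⟨k * g, by rw [mul_smul, hg, hk1], by rw [mul_smul, hk2]⟩

/-- Transitivity on norm 48. -/
theorem trans48 {v w : leechLattice} (hv : sqNorm (v : GolayPt → ℤ) = 48) (hw : sqNorm (w : GolayPt → ℤ) = 48) :
    ∃ g : Co0, g • v = w := by
  obtain ⟨a, b, ha, hb, hab, rfl⟩ := split48 hv
  obtain ⟨a', b', ha', hb', hab', rfl⟩ := split48 hw
  obtain ⟨g, h1, h2⟩ := trans_pair ha hb ha' hb' (Or.inr (Or.inl rfl)) hab hab'
  exact ⟨g, by rw [co0_add, h1, h2]⟩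

theorem norm_sum (a b : leechLattice) : sqNorm ((a + b : leechLattice) : GolayPt → ℤ) =
    sqNorm (a : GolayPt → ℤ) + 2 * dotInt (a : GolayPt → ℤ) b + sqNorm (b : GolayPt → ℤ) :=
  sqNorm_add _ _

theorem trans48_pairs {u v v' : leechLattice} (hu : sqNorm (u : GolayPt → ℤ) = 48)
    (hv : sqNorm (v : GolayPt → ℤ) = 32 ∧ sqNorm ((u - v) : GolayPt → ℤ) = 32)
    (hv' : sqNorm (v' : GolayPt → ℤ) = 32 ∧ sqNorm ((u - v') : GolayPt → ℤ) = 32) :
    ∃ g : Co0, g • u = u ∧ g • v = v' := by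
  have hd : ∀ t : leechLattice, sqNorm (t : GolayPt → ℤ) = 32 → sqNorm ((u - t) : GolayPt → ℤ) = 32 →
      dotInt (t : GolayPt → ℤ) (u - t : leechLattice) = -8 := by
    intro t h1 h2
    have h := norm_sum t (u - t)
    rw [add_sub_cancel, hu, h1, show sqNorm ((u - t : leechLattice) : GolayPt → ℤ) = 32 from h2] at h
    omega
  obtain ⟨g, h1, h2⟩ := trans_pair (b := u - v) (b' := u - v') hv.1 hv.2 hv'.1 hv'.2 (Or.inr (Or.inl rfl))
    (hd v hv.1 hv.2) (hd v' hv'.1 hv'.2)
  refine ⟨g, ?_, h1⟩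
  calc g • u = g • (v + (u - v)) := by rw [add_sub_cancel]
    _ = v' + (u - v') := by rw [co0_add, h1, h2]
    _ = u := add_sub_cancel _ _

theorem count48 (u : leechLattice) (hu : sqNorm (u : GolayPt → ℤ) = 48) :
    {v : leechLattice | sqNorm (v : GolayPt → ℤ) = 32 ∧ sqNorm ((u - v) : GolayPt → ℤ) = 32}.ncard = 552 := by
  classical
  set s2 := shell 32 (by omega) with hs2
  set s3 := shell 48 (by omega) with hs3
  let r : leechLattice → leechLattice → Prop := fun a w => sqNorm ((w - a : leechLattice) : GolayPt → ℤ) = 32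
  have m2 : ∀ {t}, t ∈ s2 ↔ sqNorm (t : GolayPt → ℤ) = 32 := fun {t} => by rw [hs2, mem_shell]; norm_num
  have m3 : ∀ {t}, t ∈ s3 ↔ sqNorm (t : GolayPt → ℤ) = 48 := fun {t} => by rw [hs3, mem_shell]; norm_num
  have habove : ∀ a ∈ s2, (s3.bipartiteAbove r a).card = 47104 := by
    intro a ha
    rw [m2] at ha
    rw [← (dot_counts a ha).2.1, ← Set.ncard_coe_finset]
    refine Set.ncard_congr (fun w _ => ((w - a : leechLattice) : GolayPt → ℤ)) ?_ ?_ ?_
    · intro w hw
      rw [Finset.mem_coe, Finset.mem_bipartiteAbove, m3] at hw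
      refine ⟨(w - a).2, hw.2, ?_⟩
      have h := norm_sum a (w - a)
      rw [add_sub_cancel, hw.1, ha, hw.2] at h
      omega
    · intro x y _ _ e
      exact sub_left_injective (Subtype.ext e)
    · rintro t ⟨h1, h2, h3⟩
      refine ⟨a + ⟨t, h1⟩, ?_, by rw [add_sub_cancel_left]⟩
      rw [Finset.mem_coe, Finset.mem_bipartiteAbove, m3]
      refine ⟨by rw [norm_sum, ha, h3, h2]; norm_num, ?_⟩
      show sqNorm ((a + ⟨t, h1⟩ - a : leechLattice) : GolayPt → ℤ) = 32
      rw [add_sub_cancel_left]; exact h2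
  set F : leechLattice → ℕ := fun w => (s2.bipartiteBelow r w).card with hF
  have hconst : ∀ w ∈ s3, F w = F u := by
    intro w hw
    rw [m3] at hw
    obtain ⟨g, hg⟩ := trans48 hw hu
    refine Finset.card_bij (fun a _ => g • a) (fun a ha => ?_) (fun a _ b _ e => smul_left_cancel g e)
      fun b hb => ⟨g⁻¹ • b, ?_, smul_inv_smul g b⟩
    · simp only [Finset.mem_bipartiteBelow, m2, r] at ha ⊢
      rw [← hg, ← co0_sub, co0_norm, co0_norm]; exact ha
    · simp only [Finset.mem_bipartiteBelow, m2, r] at hb ⊢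
      rw [← inv_smul_smul g w, hg, ← co0_sub, co0_norm, co0_norm]; exact hb
  have hsum := Finset.sum_card_bipartiteAbove_eq_sum_card_bipartiteBelow (s := s2) (t := s3) r
  rw [Finset.sum_congr rfl habove, Finset.sum_congr rfl hconst, Finset.sum_const, Finset.sum_const,
    smul_eq_mul, smul_eq_mul] at hsum
  have c2 : s2.card = 196560 := by rw [hs2, card_shell]; exact_mod_cast ncard32
  have c3 : s3.card = 16773120 := by rw [hs3, card_shell]; exact_mod_cast ncard48
  rw [c2, c3] at hsum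
  have : F u = 552 := by omega
  rw [← this, hF]
  dsimp only
  rw [← Set.ncard_coe_finset]
  congr 1
  ext v
  simp only [Set.mem_ofPred_eq, Finset.coe_filter, Finset.bipartiteBelow, m2, r, AddSubgroup.coe_sub]

theorem split64 {x : leechLattice} (hx : sqNorm (x : GolayPt → ℤ) = 64) :
    ∃ a b : leechLattice, sqNorm (a : GolayPt → ℤ) = 32 ∧ sqNorm (b : GolayPt → ℤ) = 32 ∧
      dotInt (a : GolayPt → ℤ) b = 0 ∧ x = a + b := by
  classical
  set s2 := shell 32 (by omega) with hs2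
  set s4 := shell 64 le_rfl with hs4
  have m2 : ∀ {t}, t ∈ s2 ↔ sqNorm (t : GolayPt → ℤ) = 32 := fun {t} => by rw [hs2, mem_shell]; norm_num
  have m4 : ∀ {t}, t ∈ s4 ↔ sqNorm (t : GolayPt → ℤ) = 64 := fun {t} => by rw [hs4, mem_shell]; norm_num
  let r : leechLattice → leechLattice → Prop := fun a w => sqNorm ((w - a : leechLattice) : GolayPt → ℤ) = 32
  have habove : ∀ a ∈ s2, (s4.bipartiteAbove r a).card = 93150 := by
    intro a ha
    rw [m2] at ha
    rw [← (dot_counts a ha).2.2, ← Set.ncard_coe_finset]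
    refine Set.ncard_congr (fun w _ => ((w - a : leechLattice) : GolayPt → ℤ)) ?_ ?_ ?_
    · intro w hw
      rw [Finset.mem_coe, Finset.mem_bipartiteAbove, m4] at hw
      refine ⟨(w - a).2, hw.2, ?_⟩
      have h := norm_sum a (w - a)
      rw [add_sub_cancel, hw.1, ha, hw.2] at h
      omega
    · intro x y _ _ e
      exact sub_left_injective (Subtype.ext e)
    · rintro t ⟨h1, h2, h3⟩
      refine ⟨a + ⟨t, h1⟩, ?_, by rw [add_sub_cancel_left]⟩
      rw [Finset.mem_coe, Finset.mem_bipartiteAbove, m4]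
      refine ⟨by rw [norm_sum, ha, h3, h2]; norm_num, ?_⟩
      show sqNorm ((a + ⟨t, h1⟩ - a : leechLattice) : GolayPt → ℤ) = 32
      rw [add_sub_cancel_left]; exact h2
  have hbelow : ∀ w ∈ s4, (s2.bipartiteBelow r w).card ≤ 46 := by
    intro w hw
    rw [m4] at hw
    have hcard := class_data.2 w hw
    have hsub : ({(w : GolayPt → ℤ), -(w : GolayPt → ℤ)} : Set (GolayPt → ℤ)) ⊆ cross (w : GolayPt → ℤ) := by
      rintro y (rfl | rfl)
      · exact ⟨w.2, rfl, 0, zero_mem _, by simp⟩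
      · exact ⟨neg_mem w.2, neg_norm _, (w : GolayPt → ℤ), w.2, by rw [two_nsmul]; abel⟩
    have hdiff : (cross (w : GolayPt → ℤ) \ {(w : GolayPt → ℤ), -(w : GolayPt → ℤ)}).ncard = 46 := by
      rw [Set.ncard_sdiff hsub (Set.toFinite _), hcard, Set.ncard_pair]
      intro e
      have h0 : (w : GolayPt → ℤ) = 0 := funext fun i => by
        have := congrFun e i
        simp only [Pi.neg_apply, Pi.zero_apply] at *
        omega
      rw [h0] at hw
      simp [sqNorm] at hw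
    rw [← hdiff, ← Set.ncard_coe_finset]
    refine Set.ncard_le_ncard_of_injOn (fun a : leechLattice => ((a - (w - a) : leechLattice) : GolayPt → ℤ))
      ?_ ?_ ((cross_finite _ (by omega)).sdiff)
    · intro a ha
      simp only [Finset.coe_filter, Finset.bipartiteBelow, Set.mem_ofPred_eq, m2, r] at ha
      obtain ⟨ha1, ha2⟩ := ha
      have hd : dotInt (a : GolayPt → ℤ) (w - a : leechLattice) = 0 := by
        have h := norm_sum a (w - a)
        rw [add_sub_cancel, hw, ha1, ha2] at h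
        omega
      refine ⟨⟨(a - (w - a)).2, ?_, (w - a : leechLattice), (w - a).2, ?_⟩, ?_⟩
      · rw [sub_eq_add_neg, norm_sum, AddSubgroup.coe_neg, neg_norm, ha1, ha2]
        have e : dotInt (a : GolayPt → ℤ) (-((w - a : leechLattice) : GolayPt → ℤ)) =
            -dotInt (a : GolayPt → ℤ) (w - a : leechLattice) := by
          unfold dotInt
          rw [← Finset.sum_neg_distrib]
          exact Finset.sum_congr rfl fun i _ => by simp only [Pi.neg_apply, mul_neg]
        have : dotInt (a : GolayPt → ℤ) (-((w - a : leechLattice) : GolayPt → ℤ)) = 0 := by rw [e, hd, neg_zero]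
        rw [this, hw]; norm_num
      · simp only [AddSubgroup.coe_sub, two_nsmul]; abel
      · rintro (e | e)
        · have h0 : ((w - a : leechLattice) : GolayPt → ℤ) = 0 := funext fun i => by
            have := congrFun e i
            simp only [AddSubgroup.coe_sub, Pi.sub_apply, Pi.zero_apply] at *
            omega
          rw [h0] at ha2
          simp [sqNorm] at ha2
        · have h0 : (a : GolayPt → ℤ) = 0 := funext fun i => by
            have := congrFun (Set.mem_singleton_iff.1 e) i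
            simp only [AddSubgroup.coe_sub, Pi.sub_apply, Pi.neg_apply, Pi.zero_apply] at *
            omega
          rw [h0] at ha1
          simp [sqNorm] at ha1
    · intro a _ b _ e
      refine Subtype.ext (funext fun i => ?_)
      have := congrFun e i
      simp only [AddSubgroup.coe_sub, Pi.sub_apply] at this
      omega
  have hsum := Finset.sum_card_bipartiteAbove_eq_sum_card_bipartiteBelow (s := s2) (t := s4) r
  rw [Finset.sum_congr rfl habove, Finset.sum_const, smul_eq_mul] at hsum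
  have c2 : s2.card = 196560 := by rw [hs2, card_shell]; exact_mod_cast ncard32
  have c4 : s4.card = 398034000 := by rw [hs4, card_shell]; exact_mod_cast ncard64
  by_contra hne
  have hzero : (s2.bipartiteBelow r x).card = 0 := by
    rw [Finset.card_eq_zero, Finset.eq_empty_iff_forall_notMem]
    intro a ha
    simp only [Finset.mem_bipartiteBelow, m2, r] at ha
    refine hne ⟨a, x - a, ha.1, ha.2, ?_, (add_sub_cancel _ _).symm⟩
    have h := norm_sum a (x - a)
    rw [add_sub_cancel, hx, ha.1, ha.2] at h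
    omega
  have hlt : (∑ w ∈ s4, (s2.bipartiteBelow r w).card) < ∑ _w ∈ s4, 46 :=
    Finset.sum_lt_sum hbelow ⟨x, m4.2 hx, by rw [hzero]; norm_num⟩
  rw [← hsum, Finset.sum_const, c2, c4, smul_eq_mul] at hlt
  omega

theorem trans_cross {v w : leechLattice} (hv : sqNorm (v : GolayPt → ℤ) = 64) (hw : sqNorm (w : GolayPt → ℤ) = 64) :
    ∃ g : Co0, g • v = w := by
  obtain ⟨a, b, ha, hb, hab, rfl⟩ := split64 hv
  obtain ⟨a', b', ha', hb', hab', rfl⟩ := split64 hw
  obtain ⟨g, h1, h2⟩ := trans_pair ha hb ha' hb' (Or.inr (Or.inr rfl)) hab hab'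
  exact ⟨g, by rw [co0_add, h1, h2]⟩

end Cfsg.Lib.Leech
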